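import Groth.Agent.H58.LCDepth
import Mathlib.RingTheory.Regular.IsSMulRegular
import Mathlib.RingTheory.Ideal.AssociatedPrime.Finiteness

set_option autoImplicit false
universe u

/-!
# Non-vanishing of local cohomology: if all `H^i_I(N)` vanish (N finitely generated) then `N = I N`
-/

namespace Groth.Agent.H98.LCRes

open CategoryTheory Groth.Agent.H58.LC
open scoped Pointwise

variable {R : Type u} [CommRing R] [IsNoetherianRing R] (I : Ideal R)

/-- if `Γ_I(Q) = 0` for a finitely generated module `Q`, then `I` contains a `Q`-regular element -/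
theorem exists_isSMulRegular_of_torsionSub_eq_bot (Q : Type u) [AddCommGroup Q] [Module R Q]
    [Module.Finite R Q] (h : DRing.torsionSub I Q = ⊥) : ∃ x ∈ I, IsSMulRegular Q x := by
  by_contra hcon
  push_neg at hcon
  have hsub : (I : Set R) ⊆ ⋃ p ∈ associatedPrimes R Q, (p : Set R) := by
    rw [biUnion_associatedPrimes_eq_compl_regular R Q]
    intro x hx
    exact hcon x hx
  have hne : (associatedPrimes R Q).Nonempty := by
    by_contra hemp
    rw [Set.not_nonempty_iff_eq_empty] at hemp
    rw [hemp] at hsub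
    simp only [Set.mem_empty_iff_false, Set.iUnion_of_empty, Set.iUnion_empty,
      Set.subset_empty_iff] at hsub
    have : (0 : R) ∈ (I : Set R) := I.zero_mem
    rw [hsub] at this
    exact this
  obtain ⟨Ia, hIa⟩ := hne
  obtain ⟨p, hp, hIp⟩ := (Ideal.subset_union_prime_finite (associatedPrimes.finite R Q) Ia Ia
    (fun J hJ _ _ => IsAssociatedPrime.isPrime hJ)).1 hsub
  obtain ⟨hprime, y, hy⟩ := isAssociatedPrime_iff.1 hp
  have hy0 : y ∈ DRing.torsionSub I Q := by
    refine ⟨1, fun a ha => ?_⟩
    rw [pow_one] at ha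
    have h1 : a ∈ p := hIp ha
    rw [hy, Submodule.mem_colon_singleton, Submodule.mem_bot] at h1
    exact h1
  rw [h, Submodule.mem_bot] at hy0
  apply hprime.ne_top
  rw [hy, hy0, eq_top_iff]
  intro r _
  rw [Submodule.mem_colon_singleton, smul_zero]
  exact Submodule.zero_mem _

/-- transport of vanishing along a linear equivalence -/
theorem subsingleton_of_linearEquiv {A B : Type u} [AddCommGroup A] [Module R A] [AddCommGroup B]
    [Module R B] (e : A ≃ₗ[R] B) (i : ℕ)
    (h : Subsingleton ((localCohomology I i).obj (ModuleCat.of R A))) :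
    Subsingleton ((localCohomology I i).obj (ModuleCat.of R B)) :=
  (((localCohomology I i).mapIso e.toModuleIso).toLinearEquiv.toEquiv).symm.subsingleton

/-- if `x ∈ I` is `Q`-regular and all `H^i_I(Q)` vanish then all `H^i_I(Q/xQ)` vanish -/
theorem subsingleton_quotSMulTop (Q : Type u) [AddCommGroup Q] [Module R Q] {x : R}
    (hreg : IsSMulRegular Q x)
    (h : ∀ i, Subsingleton ((localCohomology I i).obj (ModuleCat.of R Q))) (i : ℕ) :
    Subsingleton ((localCohomology I i).obj (ModuleCat.of R (QuotSMulTop x Q))) := by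
  have hS := shortExact_smul Q hreg
  refine ⟨fun a b => ?_⟩
  have key : ∀ z : (localCohomology I i).obj (ModuleCat.of R (QuotSMulTop x Q)), z = 0 := by
    intro z
    have h1 := h (i + 1)
    obtain ⟨z₂, rfl⟩ := exact₃ I i hS z (Subsingleton.elim _ _)
    have h2 := h i
    rw [Subsingleton.elim z₂ 0, map_zero]
  rw [key a, key b]

/-- **Non-vanishing.** If `N` is finitely generated and all `H^i_I(N)` vanish then `N = I N`. -/
theorem smul_top_eq_top_of_forall_subsingleton (N : Type u) [AddCommGroup N] [Module R N]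
    [Module.Finite R N]
    (h : ∀ i, Subsingleton ((localCohomology I i).obj (ModuleCat.of R N))) :
    I • (⊤ : Submodule R N) = ⊤ := by
  have key : ∀ K : Submodule R N,
      (∀ i, Subsingleton ((localCohomology I i).obj (ModuleCat.of R (N ⧸ K)))) →
        K ⊔ I • (⊤ : Submodule R N) = ⊤ := by
    intro K
    induction K using IsNoetherian.induction with
    | _ K ih =>
    intro hK
    -- `Γ_I(N/K) = 0`
    have hΓ : DRing.torsionSub I (N ⧸ K) = ⊥ := by
      have := hK 0
      have h2 : Subsingleton (DRing.torsionSub I (N ⧸ K)) :=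
        (H0equiv I (ModuleCat.of R (N ⧸ K))).symm.toEquiv.subsingleton
      exact Submodule.eq_bot_of_subsingleton
    obtain ⟨x, hxI, hreg⟩ := exists_isSMulRegular_of_torsionSub_eq_bot I (N ⧸ K) hΓ
    by_cases htop : K = ⊤
    · rw [htop, top_sup_eq]
    -- the bigger submodule
    let K' : Submodule R N := (x • (⊤ : Submodule R (N ⧸ K))).comap K.mkQ
    have hKK' : K ≤ K' := by
      intro y hy
      rw [Submodule.mem_comap, Submodule.mkQ_apply, (Submodule.Quotient.mk_eq_zero K).2 hy]
      exact Submodule.zero_mem _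
    have hmap : K'.map K.mkQ = x • (⊤ : Submodule R (N ⧸ K)) :=
      Submodule.map_comap_eq_of_surjective (Submodule.mkQ_surjective K) _
    have hlt : K < K' := by
      refine lt_of_le_of_ne hKK' (fun heq => htop ?_)
      -- if `K = K'` then `x (N/K) = 0`, so `N/K = 0`
      rw [eq_top_iff]
      intro y _
      have h1 : x • K.mkQ y ∈ x • (⊤ : Submodule R (N ⧸ K)) :=
        Submodule.smul_mem_pointwise_smul _ x ⊤ trivial
      have h2 : x • y ∈ K' := by
        rw [Submodule.mem_comap, map_smul]
        exact h1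
      rw [← heq] at h2
      have h3 : x • K.mkQ y = 0 := by
        rw [← map_smul, Submodule.mkQ_apply, Submodule.Quotient.mk_eq_zero]
        exact h2
      have h4 : K.mkQ y = 0 := hreg (show x • K.mkQ y = x • 0 by rw [h3, smul_zero])
      rw [Submodule.mkQ_apply, Submodule.Quotient.mk_eq_zero] at h4
      exact h4
    -- cohomology of `N/K'` vanishes
    have e : (QuotSMulTop x (N ⧸ K)) ≃ₗ[R] N ⧸ K' :=
      (Submodule.quotEquivOfEq _ _ hmap.symm).trans
        (Submodule.quotientQuotientEquivQuotient K K' hKK')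
    have hK' : ∀ i, Subsingleton ((localCohomology I i).obj (ModuleCat.of R (N ⧸ K'))) :=
      fun i => subsingleton_of_linearEquiv I e i (subsingleton_quotSMulTop I (N ⧸ K) hreg hK i)
    have h5 := ih K' hlt hK'
    -- `K' ≤ K ⊔ I N`
    have h6 : K' ≤ K ⊔ I • (⊤ : Submodule R N) := by
      intro y hy
      have hy' : K.mkQ y ∈ x • (⊤ : Submodule R (N ⧸ K)) := Submodule.mem_comap.1 hy
      obtain ⟨w, -, hw⟩ := (Submodule.mem_smul_pointwise_iff_exists _ x ⊤).1 hy'
      obtain ⟨w', rfl⟩ := Submodule.mkQ_surjective K w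
      have h7 : y - x • w' ∈ K := by
        rw [← Submodule.Quotient.mk_eq_zero, Submodule.Quotient.mk_sub]
        change K.mkQ y - K.mkQ (x • w') = 0
        rw [map_smul, ← hw, sub_self]
      have h8 : y = (y - x • w') + x • w' := by abel
      rw [h8]
      exact Submodule.add_mem_sup h7 (Submodule.smul_mem_smul hxI trivial)
    exact eq_top_iff.2 (h5.symm.le.trans (sup_le h6 le_sup_right))
  have h0 := key ⊥ (fun i =>
    subsingleton_of_linearEquiv I (Submodule.quotEquivOfEqBot ⊥ rfl).symm i (h i))
  rw [bot_sup_eq] at h0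
  exact h0

end Groth.Agent.H98.LCRes
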