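import Groth.Agent.H58.LCTorsion
import Groth.Prelude.Def_GrLC

set_option autoImplicit false
universe u

/-!
# Local cohomology computed from a resolution by `Γ_I`-acyclic modules

`AcycRes I M`: an exact sequence `0 → M → X 0 → X 1 → ⋯` of modules with `H^j_I(X n) = 0` for `j ≥ 1`.
Main result `AcycRes.nonempty_equiv`: `H^i(Γ_I(X^•)) ≃ H^i_I(M)`.
-/

namespace Groth.Agent.H98.LCRes

open CategoryTheory Groth.Agent.H58.LC

variable {R : Type u} [CommRing R] (I : Ideal R)

theorem gam_eq_torsionSub (M : Type u) [AddCommGroup M] [Module R M] :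
    GrLC.gam I M = DRing.torsionSub I M := rfl

/-- A resolution of `M` by modules that are acyclic for `Γ_I`. -/
structure AcycRes (M : Type u) [AddCommGroup M] [Module R M] where
  X : ℕ → Type u
  [acg : ∀ n, AddCommGroup (X n)]
  [mod : ∀ n, Module R (X n)]
  d : ∀ n : ℕ, X n →ₗ[R] X (n + 1)
  ε : M →ₗ[R] X 0
  ε_injective : Function.Injective ε
  exact_zero : LinearMap.ker (d 0) = LinearMap.range ε
  exact_succ : ∀ n, LinearMap.ker (d (n + 1)) = LinearMap.range (d n)
  acyclic : ∀ n j, Subsingleton ((localCohomology I (j + 1)).obj (ModuleCat.of R (X n)))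

attribute [instance] AcycRes.acg AcycRes.mod

namespace AcycRes

variable {I} {M : Type u} [AddCommGroup M] [Module R M] (E : AcycRes I M)

/-- cocycles of `Γ_I(X^•)` -/
def cocyc (i : ℕ) : Submodule R (E.X i) := GrLC.gam I (E.X i) ⊓ LinearMap.ker (E.d i)

/-- coboundaries of `Γ_I(X^•)` -/
def cobdy : (i : ℕ) → Submodule R (E.X i)
  | 0 => ⊥
  | n + 1 => (GrLC.gam I (E.X n)).map (E.d n)

/-- cohomology of `Γ_I(X^•)` -/
abbrev H (i : ℕ) : Type u := ↥(E.cocyc i) ⧸ (E.cobdy i).comap (E.cocyc i).subtype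

/-- the shifted resolution of `im (d 0)` -/
def shift : AcycRes I (LinearMap.range (E.d 0)) where
  X n := E.X (n + 1)
  d n := E.d (n + 1)
  ε := (LinearMap.range (E.d 0)).subtype
  ε_injective := Subtype.val_injective
  exact_zero := by rw [Submodule.range_subtype]; exact E.exact_succ 0
  exact_succ n := E.exact_succ (n + 1)
  acyclic n j := E.acyclic (n + 1) j

theorem shift_H (k : ℕ) : E.shift.H (k + 1) = E.H (k + 2) := rfl

theorem exact_ε_d : Function.Exact E.ε (E.d 0).rangeRestrict := by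
  intro y
  constructor
  · intro hy
    have h1 : E.d 0 y = 0 := congrArg Subtype.val hy
    have h2 : y ∈ LinearMap.ker (E.d 0) := h1
    rw [E.exact_zero] at h2
    exact h2
  · rintro ⟨x, rfl⟩
    have h2 : E.ε x ∈ LinearMap.ker (E.d 0) := by
      rw [E.exact_zero]; exact ⟨x, rfl⟩
    exact Subtype.ext h2

/-- the short exact sequence `0 → M → X 0 → im (d 0) → 0` -/
noncomputable abbrev ses : ShortComplex (ModuleCat.{u} R) :=
  ShortComplex.mk (ModuleCat.ofHom E.ε) (ModuleCat.ofHom (E.d 0).rangeRestrict)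
    (ModuleCat.hom_ext (LinearMap.ext fun x => E.exact_ε_d.apply_apply_eq_zero x))

theorem ses_shortExact : E.ses.ShortExact :=
  shortExact_of E.ε (E.d 0).rangeRestrict E.ε_injective (LinearMap.surjective_rangeRestrict _)
    E.exact_ε_d

/-- the connecting map `H^i_I(im d 0) → H^{i+1}_I(M)` -/
noncomputable def conn (i : ℕ) :
    (localCohomology I i).obj (ModuleCat.of R (LinearMap.range (E.d 0))) →ₗ[R]
      (localCohomology I (i + 1)).obj (ModuleCat.of R M) :=
  δ I i E.ses_shortExact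

theorem conn_surjective (i : ℕ) : Function.Surjective (E.conn i) := by
  intro y
  have := E.acyclic 0 i
  exact exact₁ I i E.ses_shortExact y (Subsingleton.elim _ _)

theorem conn_injective (i : ℕ) : Function.Injective (E.conn (i + 1)) := by
  rw [injective_iff_map_eq_zero]
  intro x hx
  have := E.acyclic 0 i
  obtain ⟨x₂, rfl⟩ := exact₃ I (i + 1) E.ses_shortExact x hx
  have : x₂ = 0 := Subsingleton.elim _ _
  rw [this, map_zero]

/-- `H^{i+1}_I(im d 0) ≃ H^{i+2}_I(M)` -/
noncomputable def connEquiv (i : ℕ) :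
    (localCohomology I (i + 1)).obj (ModuleCat.of R (LinearMap.range (E.d 0))) ≃ₗ[R]
      (localCohomology I (i + 2)).obj (ModuleCat.of R M) :=
  LinearEquiv.ofBijective (E.conn (i + 1)) ⟨E.conn_injective i, E.conn_surjective (i + 1)⟩

/-! ### degree zero -/

/-- `Γ_I(M) → Z^0` -/
def toCocycZero : DRing.torsionSub I M →ₗ[R] E.cocyc 0 :=
  (E.ε ∘ₗ (DRing.torsionSub I M).subtype).codRestrict (E.cocyc 0) (by
    intro x
    refine ⟨DRing.map_mem_torsionSub I E.ε x.2, ?_⟩
    change E.ε x.1 ∈ LinearMap.ker (E.d 0)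
    rw [E.exact_zero]
    exact ⟨x.1, rfl⟩)

theorem toCocycZero_bijective : Function.Bijective E.toCocycZero := by
  constructor
  · intro x y h
    have h1 : E.ε x.1 = E.ε y.1 := congrArg Subtype.val h
    exact Subtype.ext (E.ε_injective h1)
  · rintro ⟨z, hz1, hz2⟩
    rw [E.exact_zero] at hz2
    obtain ⟨x, rfl⟩ := hz2
    obtain ⟨n, hn⟩ := hz1
    refine ⟨⟨x, n, fun a ha => ?_⟩, rfl⟩
    apply E.ε_injective
    rw [map_smul, hn a ha, map_zero]

theorem nonempty_equiv_zero :
    Nonempty (E.H 0 ≃ₗ[R] (localCohomology I 0).obj (ModuleCat.of R M)) := by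
  have hbot : (E.cobdy 0).comap (E.cocyc 0).subtype = ⊥ := by
    change (⊥ : Submodule R (E.X 0)).comap (E.cocyc 0).subtype = ⊥
    rw [Submodule.comap_bot, Submodule.ker_subtype]
  exact ⟨(Submodule.quotEquivOfEqBot _ hbot).trans
    ((LinearEquiv.ofBijective E.toCocycZero E.toCocycZero_bijective).symm.trans
      (H0equiv I (ModuleCat.of R M)).symm)⟩

/-! ### degree one -/

/-- `Z^1 → Γ_I(im d 0)` -/
def cocycOneTo : E.cocyc 1 →ₗ[R] DRing.torsionSub I (LinearMap.range (E.d 0)) :=
  ((E.cocyc 1).subtype.codRestrict (LinearMap.range (E.d 0)) (by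
    intro z
    rw [← E.exact_succ 0]
    exact z.2.2)).codRestrict (DRing.torsionSub I (LinearMap.range (E.d 0))) (by
    intro z
    obtain ⟨n, hn⟩ := z.2.1
    exact ⟨n, fun a ha => Subtype.ext (hn a ha)⟩)

theorem cocycOneTo_val (z : E.cocyc 1) : ((E.cocycOneTo z).1 : E.X 1) = z.1 := rfl

theorem cocycOneTo_surjective : Function.Surjective E.cocycOneTo := by
  rintro ⟨⟨y, hy⟩, n, hn⟩
  refine ⟨⟨y, ⟨n, fun a ha => ?_⟩, ?_⟩, rfl⟩
  · exact congrArg Subtype.val (hn a ha)
  · rw [E.exact_succ 0]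
    exact hy

/-- `Z^1 → H^1_I(M)` -/
noncomputable def cocycOneToH : E.cocyc 1 →ₗ[R] (localCohomology I 1).obj (ModuleCat.of R M) :=
  E.conn 0 ∘ₗ (H0equiv I (ModuleCat.of R (LinearMap.range (E.d 0)))).symm.toLinearMap ∘ₗ
    E.cocycOneTo

theorem cocycOneToH_surjective : Function.Surjective E.cocycOneToH := by
  intro y
  obtain ⟨x, rfl⟩ := E.conn_surjective 0 y
  obtain ⟨z, hz⟩ := E.cocycOneTo_surjective
    (H0equiv I (ModuleCat.of R (LinearMap.range (E.d 0))) x)
  refine ⟨z, ?_⟩
  change E.conn 0 ((H0equiv I _).symm (E.cocycOneTo z)) = _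
  rw [hz, LinearEquiv.symm_apply_apply]

theorem ker_cocycOneToH :
    LinearMap.ker E.cocycOneToH = (E.cobdy 1).comap (E.cocyc 1).subtype := by
  ext z
  rw [LinearMap.mem_ker, Submodule.mem_comap]
  change E.conn 0 ((H0equiv I _).symm (E.cocycOneTo z)) = 0 ↔
    z.1 ∈ (GrLC.gam I (E.X 0)).map (E.d 0)
  constructor
  · intro h
    obtain ⟨x₂, hx₂⟩ := exact₃ I 0 E.ses_shortExact _ h
    have h1 := H0equiv_map I E.ses.g x₂
    rw [hx₂, LinearEquiv.apply_symm_apply] at h1
    refine ⟨(H0equiv I (ModuleCat.of R (E.X 0)) x₂ : E.X 0),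
      (H0equiv I (ModuleCat.of R (E.X 0)) x₂).2, ?_⟩
    have h2 := congrArg Subtype.val h1
    rw [cocycOneTo_val] at h2
    exact h2.symm
  · rintro ⟨w, hw, hwz⟩
    let x₂ := (H0equiv I (ModuleCat.of R (E.X 0))).symm ⟨w, hw⟩
    have h1 := H0equiv_map I E.ses.g x₂
    have h3 : ((localCohomology I 0).map E.ses.g).hom x₂ =
        (H0equiv I _).symm (E.cocycOneTo z) := by
      apply (H0equiv I (ModuleCat.of R (LinearMap.range (E.d 0)))).injective
      rw [LinearEquiv.apply_symm_apply]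
      apply Subtype.ext
      rw [h1]
      apply Subtype.ext
      rw [cocycOneTo_val, ← hwz]
      change ((E.d 0).rangeRestrict
        ((H0equiv I (ModuleCat.of R (E.X 0))) x₂ : E.X 0) : E.X 1) = _
      rw [LinearEquiv.apply_symm_apply]
      rfl
    rw [← h3]
    exact δ_map_g I 0 E.ses_shortExact x₂

theorem nonempty_equiv_one :
    Nonempty (E.H 1 ≃ₗ[R] (localCohomology I 1).obj (ModuleCat.of R M)) :=
  ⟨(Submodule.quotEquivOfEq _ _ E.ker_cocycOneToH.symm).trans
    (E.cocycOneToH.quotKerEquivOfSurjective E.cocycOneToH_surjective)⟩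

end AcycRes

theorem AcycRes.nonempty_equiv_succ (k : ℕ) :
    ∀ (M : Type u) [AddCommGroup M] [Module R M] (E : AcycRes I M),
      Nonempty (E.H (k + 1) ≃ₗ[R] (localCohomology I (k + 1)).obj (ModuleCat.of R M)) := by
  induction k with
  | zero => intro M _ _ E; exact E.nonempty_equiv_one
  | succ k ih =>
    intro M _ _ E
    obtain ⟨e⟩ := ih (LinearMap.range (E.d 0)) E.shift
    exact ⟨e.trans (E.connEquiv k)⟩

/-- **Acyclic resolutions compute local cohomology.** -/
theorem AcycRes.nonempty_equiv {M : Type u} [AddCommGroup M] [Module R M] (E : AcycRes I M)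
    (i : ℕ) : Nonempty (E.H i ≃ₗ[R] (localCohomology I i).obj (ModuleCat.of R M)) := by
  cases i with
  | zero => exact E.nonempty_equiv_zero
  | succ k => exact AcycRes.nonempty_equiv_succ I k M E

end Groth.Agent.H98.LCRes
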