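import Groth.Agent.H58.LCGV
import Groth.Agent.H58.LCLes
import Groth.Agent.H58.LCTorsion

set_option autoImplicit false
universe u

/-!
# Top local cohomology: `H^r_I(R) = I · H^r_I(R)` for `r ≥ max(1, dim R)`
-/

namespace Groth.Agent.H98.LCRes

open CategoryTheory Groth.Agent.H58.LC

variable {R : Type u} [CommRing R] [IsNoetherianRing R] (I : Ideal R)

omit [IsNoetherianRing R] in
theorem map_sum' {M N : ModuleCat.{u} R} {α : Type*} (s : Finset α) (g : α → (M ⟶ N)) (i : ℕ)
    (x : (localCohomology I i).obj M) :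
    ((localCohomology I i).map (∑ j ∈ s, g j)).hom x =
      ∑ j ∈ s, ((localCohomology I i).map (g j)).hom x := by
  classical
  induction s using Finset.induction_on with
  | empty => rw [Finset.sum_empty, Finset.sum_empty, map_zero']
  | insert j s hj ih => rw [Finset.sum_insert hj, Finset.sum_insert hj, map_add', ih]

/-- `H^r_I(R) = I · H^r_I(R)` when `r ≥ 1` and `r ≥ dim R` -/
theorem smul_top_eq_top_of_dim_le (r : ℕ) (hr : 1 ≤ r) (hdim : ringKrullDim R ≤ (r : WithBot ℕ∞)) :
    I • (⊤ : Submodule R (LocCoh.H I r R)) = ⊤ := by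
  classical
  obtain ⟨s, hs⟩ : (I : Submodule R R).FG := IsNoetherian.noetherian I
  -- the map `f : R^s → R`, `v ↦ ∑ v i • i`
  let f : (s → R) →ₗ[R] R := ∑ j : s, (j : R) • LinearMap.proj j
  have hf_apply : ∀ v : s → R, f v = ∑ j : s, (j : R) * v j := by
    intro v
    simp only [f, LinearMap.sum_apply, LinearMap.smul_apply, LinearMap.proj_apply, smul_eq_mul]
  have hfI : ∀ v : s → R, f v ∈ I := by
    intro v
    rw [hf_apply]
    refine Ideal.sum_mem _ (fun j _ => Ideal.mul_mem_right _ _ ?_)
    rw [← hs]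
    exact Submodule.subset_span j.2
  let f' : (s → R) →ₗ[R] I := f.codRestrict I hfI
  have hf'surj : Function.Surjective f' := by
    rintro ⟨y, hy⟩
    have hy' : y ∈ Submodule.span R (s : Set R) := by
      have : y ∈ Ideal.span (s : Set R) := by rw [hs]; exact hy
      exact this
    rw [Submodule.mem_span_finset'] at hy'
    obtain ⟨c, hc⟩ := hy'
    refine ⟨c, Subtype.ext ?_⟩
    change f c = y
    rw [hf_apply, ← hc]
    refine Finset.sum_congr rfl (fun j _ => ?_)
    rw [smul_eq_mul, mul_comm]
  -- the two short exact sequences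
  have hS₁ := shortExact_of (LinearMap.ker f').subtype f' (Submodule.injective_subtype _) hf'surj
    (fun v => by
      constructor
      · intro hv
        exact ⟨⟨v, hv⟩, rfl⟩
      · rintro ⟨w, rfl⟩
        exact w.2)
  have hS₂ := shortExact_of (I : Submodule R R).subtype (Submodule.mkQ I)
    (Submodule.injective_subtype _) (Submodule.mkQ_surjective _)
    (fun y => by
      constructor
      · intro hy
        exact ⟨⟨y, (Submodule.Quotient.mk_eq_zero _).mp hy⟩, rfl⟩
      · rintro ⟨w, rfl⟩
        exact (Submodule.Quotient.mk_eq_zero _).mpr w.2)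
  -- vanishing of `H^{r+1}` of the kernel
  have hK : Subsingleton ((localCohomology I (r + 1)).obj (ModuleCat.of R (LinearMap.ker f'))) := by
    apply gv I (r + 1) (LinearMap.ker f')
    refine lt_of_le_of_lt ((Module.supportDim_le_ringKrullDim R _).trans hdim) ?_
    exact_mod_cast Nat.lt_succ_self r
  -- vanishing of `H^r(R/I)`
  have hQ : Subsingleton ((localCohomology I r).obj (ModuleCat.of R (R ⧸ I))) := by
    obtain ⟨k, rfl⟩ : ∃ k, r = k + 1 := ⟨r - 1, by omega⟩
    apply subsingleton_of_isPowerTorsion I k (ModuleCat.of R (R ⧸ I))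
    intro x
    refine ⟨1, fun a ha => ?_⟩
    rw [pow_one] at ha
    obtain ⟨y, rfl⟩ := Submodule.Quotient.mk_surjective _ x
    change a • (Submodule.Quotient.mk y : R ⧸ I) = 0
    rw [← Submodule.Quotient.mk_smul, Submodule.Quotient.mk_eq_zero]
    exact Ideal.mul_mem_right _ _ ha
  rw [eq_top_iff]
  intro x _
  -- lift `x` to `H^r(I)` then to `H^r(R^s)`
  obtain ⟨x₁, hx₁⟩ := exact₂ I r hS₂ x (Subsingleton.elim _ _)
  obtain ⟨x₂, hx₂⟩ := exact₃ I r hS₁ x₁ (Subsingleton.elim _ _)
  have hcomp : ModuleCat.ofHom f' ≫ ModuleCat.ofHom (I : Submodule R R).subtype =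
      ∑ j : s, (j : R) • ModuleCat.ofHom (LinearMap.proj (R := R) (φ := fun _ : s => R) j) := by
    apply ModuleCat.hom_ext
    apply LinearMap.ext
    intro v
    rw [ModuleCat.hom_comp, ModuleCat.hom_sum]
    simp only [ModuleCat.hom_ofHom, LinearMap.coe_comp, Function.comp_apply, Submodule.coe_subtype,
      LinearMap.sum_apply, ModuleCat.hom_smul, LinearMap.smul_apply, LinearMap.proj_apply]
    change f v = _
    rw [hf_apply]
    rfl
  have hx : x = ((localCohomology I r).map
      (ModuleCat.ofHom f' ≫ ModuleCat.ofHom (I : Submodule R R).subtype)).hom x₂ := by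
    rw [Functor.map_comp, ModuleCat.hom_comp, LinearMap.comp_apply]
    rw [← hx₁, ← hx₂]
  rw [hx, hcomp, map_sum']
  refine Submodule.sum_mem _ (fun j _ => ?_)
  rw [map_smul']
  refine Submodule.smul_mem_smul ?_ Submodule.mem_top
  rw [← hs]
  exact Submodule.subset_span j.2

end Groth.Agent.H98.LCRes
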