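import Groth.Agent.H98.LCRes.Acyclic

set_option autoImplicit false
universe u

/-!
# The comparison isomorphism `H^i(Γ_I(X^•)) ≃ H^i_I(M)` explicitly, and its naturality
-/

namespace Groth.Agent.H98.LCRes

open CategoryTheory Groth.Agent.H58.LC

variable {R : Type u} [CommRing R] {I : Ideal R}

namespace AcycRes

variable {M : Type u} [AddCommGroup M] [Module R M] (E : AcycRes I M)

/-- the class of a cocycle -/
abbrev toH (i : ℕ) : E.cocyc i →ₗ[R] E.H i := ((E.cobdy i).comap (E.cocyc i).subtype).mkQ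

theorem toH_surjective (i : ℕ) : Function.Surjective (E.toH i) := Submodule.mkQ_surjective _

theorem cobdy_zero_comap : (E.cobdy 0).comap (E.cocyc 0).subtype = ⊥ := by
  change (⊥ : Submodule R (E.X 0)).comap (E.cocyc 0).subtype = ⊥
  rw [Submodule.comap_bot, Submodule.ker_subtype]

/-- `H^0(Γ_I(X^•)) ≃ H^0_I(M)` -/
noncomputable def equivZero : E.H 0 ≃ₗ[R] (localCohomology I 0).obj (ModuleCat.of R M) :=
  (Submodule.quotEquivOfEqBot _ E.cobdy_zero_comap).trans
    ((LinearEquiv.ofBijective E.toCocycZero E.toCocycZero_bijective).symm.trans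
      (H0equiv I (ModuleCat.of R M)).symm)

theorem equivZero_toH (x : DRing.torsionSub I M) :
    E.equivZero (E.toH 0 (E.toCocycZero x)) = (H0equiv I (ModuleCat.of R M)).symm x := by
  change (H0equiv I (ModuleCat.of R M)).symm
    ((LinearEquiv.ofBijective E.toCocycZero E.toCocycZero_bijective).symm
      ((Submodule.quotEquivOfEqBot _ E.cobdy_zero_comap) (E.toH 0 (E.toCocycZero x)))) = _
  congr 1
  rw [LinearEquiv.symm_apply_eq]
  rfl

/-- `H^1(Γ_I(X^•)) ≃ H^1_I(M)` -/
noncomputable def equivOne : E.H 1 ≃ₗ[R] (localCohomology I 1).obj (ModuleCat.of R M) :=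
  (Submodule.quotEquivOfEq _ _ E.ker_cocycOneToH.symm).trans
    (E.cocycOneToH.quotKerEquivOfSurjective E.cocycOneToH_surjective)

theorem equivOne_toH (z : E.cocyc 1) : E.equivOne (E.toH 1 z) = E.cocycOneToH z := rfl

end AcycRes

/-- `H^{k+1}(Γ_I(X^•)) ≃ H^{k+1}_I(M)`, by dimension shifting -/
noncomputable def AcycRes.equivSucc (k : ℕ) :
    ∀ (M : Type u) [AddCommGroup M] [Module R M] (E : AcycRes I M),
      E.H (k + 1) ≃ₗ[R] (localCohomology I (k + 1)).obj (ModuleCat.of R M) :=
  Nat.rec (motive := fun k => ∀ (M : Type u) [AddCommGroup M] [Module R M] (E : AcycRes I M),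
      E.H (k + 1) ≃ₗ[R] (localCohomology I (k + 1)).obj (ModuleCat.of R M))
    (fun M _ _ E => E.equivOne)
    (fun k ih M _ _ E => (ih (LinearMap.range (E.d 0)) E.shift).trans (E.connEquiv k)) k

namespace AcycRes

variable {M : Type u} [AddCommGroup M] [Module R M] (E : AcycRes I M)

theorem equivSucc_zero : equivSucc 0 M E = E.equivOne := rfl

theorem equivSucc_succ (k : ℕ) (x : E.H (k + 2)) :
    equivSucc (k + 1) M E x = E.connEquiv k (equivSucc k (LinearMap.range (E.d 0)) E.shift x) :=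
  rfl

/-- the comparison isomorphism in all degrees -/
noncomputable def equiv : (i : ℕ) → E.H i ≃ₗ[R] (localCohomology I i).obj (ModuleCat.of R M)
  | 0 => E.equivZero
  | k + 1 => equivSucc k M E

/-! ### morphisms -/

variable {N : Type u} [AddCommGroup N] [Module R N]

/-- a morphism of resolutions over `f : M → N` -/
structure Hom (E : AcycRes I M) (F : AcycRes I N) (f : M →ₗ[R] N) where
  φ : ∀ n, E.X n →ₗ[R] F.X n
  comm_ε : ∀ m, φ 0 (E.ε m) = F.ε (f m)
  comm : ∀ n x, φ (n + 1) (E.d n x) = F.d n (φ n x)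

namespace Hom

variable {E} {F : AcycRes I N} {f : M →ₗ[R] N} (h : Hom E F f)

theorem map_cocyc (i : ℕ) (z : E.X i) (hz : z ∈ E.cocyc i) : h.φ i z ∈ F.cocyc i := by
  refine ⟨DRing.map_mem_torsionSub I (h.φ i) hz.1, ?_⟩
  have h1 : E.d i z = 0 := hz.2
  change F.d i (h.φ i z) = 0
  rw [← h.comm, h1, map_zero]

/-- the induced map on cocycles -/
def mapCocyc (i : ℕ) : E.cocyc i →ₗ[R] F.cocyc i := (h.φ i).restrict (h.map_cocyc i)

theorem mapCocyc_coe (i : ℕ) (z : E.cocyc i) : ((h.mapCocyc i z : F.cocyc i) : F.X i) = h.φ i z :=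
  rfl

theorem map_cobdy (i : ℕ) (z : E.X i) (hz : z ∈ E.cobdy i) : h.φ i z ∈ F.cobdy i := by
  cases i with
  | zero =>
    have h1 : z = 0 := (Submodule.mem_bot R).1 hz
    rw [h1, map_zero]
    exact Submodule.zero_mem _
  | succ n =>
    obtain ⟨w, hw, rfl⟩ := hz
    exact ⟨h.φ n w, DRing.map_mem_torsionSub I (h.φ n) hw, (h.comm n w).symm⟩

/-- the induced map on cohomology -/
def mapH (i : ℕ) : E.H i →ₗ[R] F.H i :=
  Submodule.mapQ _ _ (h.mapCocyc i) (fun z hz => h.map_cobdy i z.1 hz)

theorem mapH_toH (i : ℕ) (z : E.cocyc i) : h.mapH i (E.toH i z) = F.toH i (h.mapCocyc i z) := rfl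

theorem map_range (y : E.X 1) (hy : y ∈ LinearMap.range (E.d 0)) :
    h.φ 1 y ∈ LinearMap.range (F.d 0) := by
  obtain ⟨x, rfl⟩ := hy
  exact ⟨h.φ 0 x, (h.comm 0 x).symm⟩

/-- the induced map `im (d 0) → im (d 0)` -/
def resRange : LinearMap.range (E.d 0) →ₗ[R] LinearMap.range (F.d 0) :=
  (h.φ 1).restrict h.map_range

/-- the shifted morphism -/
def shift : Hom E.shift F.shift h.resRange where
  φ n := h.φ (n + 1)
  comm_ε _ := rfl
  comm n x := h.comm (n + 1) x

theorem shift_mapH (k : ℕ) (x : E.H (k + 2)) : h.shift.mapH (k + 1) x = h.mapH (k + 2) x := rfl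

/-- the morphism of short exact sequences -/
noncomputable def sesHom : E.ses ⟶ F.ses where
  τ₁ := ModuleCat.ofHom f
  τ₂ := ModuleCat.ofHom (h.φ 0)
  τ₃ := ModuleCat.ofHom h.resRange
  comm₁₂ := ModuleCat.hom_ext (LinearMap.ext fun m => (h.comm_ε m).symm)
  comm₂₃ := ModuleCat.hom_ext (LinearMap.ext fun x => Subtype.ext (h.comm 0 x).symm)

theorem conn_naturality (i : ℕ)
    (x : (localCohomology I i).obj (ModuleCat.of R (LinearMap.range (E.d 0)))) :
    F.conn i (((localCohomology I i).map (ModuleCat.ofHom h.resRange)).hom x) =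
      ((localCohomology I (i + 1)).map (ModuleCat.ofHom f)).hom (E.conn i x) :=
  δ_naturality I i E.ses_shortExact F.ses_shortExact h.sesHom x

theorem naturality_zero (x : E.H 0) :
    F.equivZero (h.mapH 0 x) =
      ((localCohomology I 0).map (ModuleCat.ofHom f)).hom (E.equivZero x) := by
  obtain ⟨z, rfl⟩ := E.toH_surjective 0 x
  obtain ⟨m, rfl⟩ := E.toCocycZero_bijective.2 z
  have h1 : h.mapCocyc 0 (E.toCocycZero m) =
      F.toCocycZero ⟨f m.1, DRing.map_mem_torsionSub I f m.2⟩ :=
    Subtype.ext (h.comm_ε m.1)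
  rw [mapH_toH, h1, equivZero_toH, equivZero_toH]
  apply (H0equiv I (ModuleCat.of R N)).injective
  rw [LinearEquiv.apply_symm_apply]
  apply Subtype.ext
  rw [H0equiv_map, LinearEquiv.apply_symm_apply]
  rfl

theorem naturality_one (x : E.H 1) :
    F.equivOne (h.mapH 1 x) =
      ((localCohomology I 1).map (ModuleCat.ofHom f)).hom (E.equivOne x) := by
  obtain ⟨z, rfl⟩ := E.toH_surjective 1 x
  rw [mapH_toH, equivOne_toH, equivOne_toH]
  change F.conn 0 ((H0equiv I _).symm (F.cocycOneTo (h.mapCocyc 1 z))) =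
    ((localCohomology I 1).map (ModuleCat.ofHom f)).hom
      (E.conn 0 ((H0equiv I _).symm (E.cocycOneTo z)))
  rw [← h.conn_naturality 0]
  congr 1
  apply (H0equiv I (ModuleCat.of R (LinearMap.range (F.d 0)))).injective
  rw [LinearEquiv.apply_symm_apply]
  apply Subtype.ext
  rw [H0equiv_map, LinearEquiv.apply_symm_apply]
  rfl

end Hom

theorem Hom.naturality_succ (k : ℕ) :
    ∀ (M N : Type u) [AddCommGroup M] [Module R M] [AddCommGroup N] [Module R N]
      (E : AcycRes I M) (F : AcycRes I N) (f : M →ₗ[R] N) (h : Hom E F f) (x : E.H (k + 1)),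
      equivSucc k N F (h.mapH (k + 1) x) =
        ((localCohomology I (k + 1)).map (ModuleCat.ofHom f)).hom (equivSucc k M E x) := by
  induction k with
  | zero =>
    intro M N _ _ _ _ E F f h x
    exact h.naturality_one x
  | succ k ih =>
    intro M N _ _ _ _ E F f h x
    rw [equivSucc_succ, equivSucc_succ, ← h.shift_mapH, ih _ _ E.shift F.shift h.resRange h.shift x]
    exact h.conn_naturality (k + 1) _

/-- **Naturality of the comparison isomorphism.** -/
theorem Hom.naturality {E : AcycRes I M} {F : AcycRes I N} {f : M →ₗ[R] N} (h : Hom E F f)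
    (i : ℕ) (x : E.H i) :
    F.equiv i (h.mapH i x) =
      ((localCohomology I i).map (ModuleCat.ofHom f)).hom (E.equiv i x) := by
  cases i with
  | zero => exact h.naturality_zero x
  | succ k => exact Hom.naturality_succ k M N E F f h x

end AcycRes

end Groth.Agent.H98.LCRes
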